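import Mathlib
import Groth.Agent.InjHull.Basic
import Groth.Agent.InjHull.Duality
import Groth.Agent.InjHull.Matlis

/-!
# Power torsion components along finitely many maximal ideals
-/

set_option autoImplicit false
set_option linter.style.haveILetI false

universe u

namespace Groth.Agent.CoextHull

variable {B : Type u} [CommRing B] {X : Type u} [AddCommGroup X] [Module B X]

/-- Elements killed by a power of `I`. -/
def torPart (I : Ideal B) (X : Type u) [AddCommGroup X] [Module B X] : Submodule B X where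
  carrier := {x | ∃ N : ℕ, ∀ a ∈ I ^ N, a • x = 0}
  zero_mem' := ⟨0, fun a _ => smul_zero a⟩
  add_mem' := fun {x y} ⟨N, hN⟩ ⟨M, hM⟩ => ⟨N + M, fun a ha => by
    rw [smul_add, hN a (Ideal.pow_le_pow_right (Nat.le_add_right _ _) ha),
      hM a (Ideal.pow_le_pow_right (Nat.le_add_left _ _) ha), add_zero]⟩
  smul_mem' := fun c x ⟨N, hN⟩ => ⟨N, fun a ha => by rw [smul_comm, hN a ha, smul_zero]⟩

theorem mem_torPart {I : Ideal B} {x : X} : x ∈ torPart I X ↔ ∃ N : ℕ, ∀ a ∈ I ^ N, a • x = 0 := Iff.rfl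

/-- Elements killed by an element outside the prime. -/
def awayPart (n : Ideal B) [n.IsPrime] (X : Type u) [AddCommGroup X] [Module B X] : Submodule B X where
  carrier := {x | ∃ c ∉ n, c • x = 0}
  zero_mem' := ⟨1, n.primeCompl.one_mem, smul_zero _⟩
  add_mem' := fun {x y} ⟨c, hc, hcx⟩ ⟨d, hd, hdy⟩ => ⟨c * d, n.primeCompl.mul_mem hc hd, by
    rw [smul_add, mul_comm c d, mul_smul, hcx, smul_zero, zero_add, mul_comm d c, mul_smul, hdy, smul_zero]⟩
  smul_mem' := fun a x ⟨c, hc, hcx⟩ => ⟨c, hc, by rw [smul_comm, hcx, smul_zero]⟩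

theorem iSupIndep_torPart : iSupIndep fun n : MaximalSpectrum B => torPart n.asIdeal X := by
  intro n
  haveI := n.isMaximal
  have hle : (⨆ j, ⨆ (_ : j ≠ n), torPart j.asIdeal X) ≤ awayPart n.asIdeal X := by
    refine iSup₂_le fun j hj x hx => ?_
    obtain ⟨N, hN⟩ := hx
    obtain ⟨c, hc, hcn⟩ := SetLike.not_le_iff_exists.mp (fun h : j.asIdeal ≤ n.asIdeal =>
      hj (MaximalSpectrum.ext (j.isMaximal.eq_of_le n.isMaximal.ne_top h)))
    exact ⟨c ^ N, fun h => hcn (n.isMaximal.isPrime.mem_of_pow_mem N h), hN _ (Ideal.pow_mem_pow hc N)⟩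
  refine Disjoint.mono_right hle ?_
  rw [Submodule.disjoint_def]
  rintro x ⟨N, hN⟩ ⟨c, hc, hcx⟩
  obtain ⟨y, i, hi, e⟩ := n.isMaximal.exists_inv hc
  have h1 : (n.asIdeal ^ N) ⊔ Ideal.span {c} = ⊤ := by
    rw [sup_comm]
    refine Ideal.sup_pow_eq_top ?_
    rw [Ideal.eq_top_iff_one, ← e]
    exact add_mem (Ideal.mem_sup_left (Ideal.mul_mem_left _ _ (Ideal.mem_span_singleton_self c)))
      (Ideal.mem_sup_right hi)
  obtain ⟨a, ha, b, hb, hab⟩ := Submodule.mem_sup.mp (h1.ge (Submodule.mem_top : (1 : B) ∈ ⊤))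
  obtain ⟨d, rfl⟩ := Ideal.mem_span_singleton'.mp hb
  rw [← one_smul B x, ← hab, add_smul, hN a ha, mul_smul, hcx, smul_zero, add_zero]

theorem iSup_torPart_eq_top [Finite (MaximalSpectrum B)]
    (hX : ∀ x : X, ∃ K : ℕ, ∀ a ∈ (⨅ n : MaximalSpectrum B, n.asIdeal) ^ K, a • x = 0) :
    ⨆ n : MaximalSpectrum B, torPart n.asIdeal X = ⊤ := by
  classical
  cases nonempty_fintype (MaximalSpectrum B)
  rw [eq_top_iff]
  intro x _
  obtain ⟨K, hK⟩ := hX x
  have hco : ((Finset.univ : Finset (MaximalSpectrum B)) : Set (MaximalSpectrum B)).Pairwise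
      fun i j => i.asIdeal ^ K ⊔ j.asIdeal ^ K = ⊤ := by
    intro i _ j _ hij
    haveI := i.isMaximal
    haveI := j.isMaximal
    exact Ideal.isCoprime_iff_sup_eq.mp
      ((Ideal.isCoprime_of_isMaximal fun h => hij (MaximalSpectrum.ext h)).pow)
  have heq : (⨅ n ∈ (Finset.univ : Finset (MaximalSpectrum B)), n.asIdeal ^ K) ≤
      (⨅ n : MaximalSpectrum B, n.asIdeal) ^ K := by
    rw [← Ideal.prod_eq_iInf_of_pairwise_isCoprime (fun i hi j hj hij =>
      Ideal.isCoprime_iff_sup_eq.mpr (hco hi hj hij)), Finset.prod_pow]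
    refine Ideal.pow_right_mono ?_ K
    exact le_iInf fun n => Ideal.prod_le_inf.trans (Finset.inf_le (Finset.mem_univ n))
  have hx : x ∈ Submodule.torsionBySet B X ↑(⨅ n ∈ (Finset.univ : Finset (MaximalSpectrum B)), n.asIdeal ^ K) := by
    rw [Submodule.mem_torsionBySet_iff]
    rintro ⟨a, ha⟩
    exact hK a (heq ha)
  rw [← Submodule.iSup_torsionBySet_ideal_eq_torsionBySet_iInf hco] at hx
  refine (show _ ≤ ⨆ n : MaximalSpectrum B, torPart n.asIdeal X from iSup₂_le fun n _ y hy => ?_) hx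
  rw [Submodule.mem_torsionBySet_iff] at hy
  exact Submodule.mem_iSup_of_mem n ⟨K, fun a ha => hy ⟨a, ha⟩⟩

theorem injective_torPart [Module.Injective B X]
    (htop : ⨆ n : MaximalSpectrum B, torPart n.asIdeal X = ⊤) (n : MaximalSpectrum B) :
    Module.Injective B (torPart n.asIdeal X) := by
  let p := torPart n.asIdeal X
  let q := ⨆ j, ⨆ (_ : j ≠ n), torPart j.asIdeal X
  have h : IsCompl p q := by
    refine ⟨iSupIndep_torPart n, ?_⟩
    rw [codisjoint_iff, eq_top_iff, ← htop]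
    refine iSup_le fun j => ?_
    rcases eq_or_ne j n with rfl | hj
    · exact le_sup_left
    · exact le_sup_of_le_right (le_iSup₂ (f := fun j (_ : j ≠ n) => torPart j.asIdeal X) j hj)
  exact InjHull.injective_of_retract p.subtype (p.projectionOnto q h)
    (LinearMap.ext fun x => Submodule.projectionOnto_apply_left h x)

end Groth.Agent.CoextHull
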